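import Cfsg.Agent.MonsterX.WordsCodeM

/-!
Held's group from elements of a group: abstract part (the Coxeter relations and the further relators).
-/

set_option autoImplicit false

namespace Cfsg.Agent.MonsterX.HeM.Abs

open Cfsg.Spor Cfsg.Agent.MonsterX.WordSub Cfsg.Agent.MonsterX.WordRels

variable {Γ : Type} [Group Γ]

/-- The generators as a function. -/
def gens (a b c d e f g : Γ) : Cfsg.Spor.He.Gen → Γ
  | .a => a
  | .b => b
  | .c => c
  | .d => d
  | .e => e
  | .f => f
  | .g => g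

theorem sq_of_comm {x y : Γ} (hx : x * x = 1) (hy : y * y = 1) (h : x * y = y * x) : (x * y) ^ 2 = 1 := by
  rw [pow_two]
  calc x * y * (x * y) = x * (y * x) * y := by group
    _ = x * (x * y) * y := by rw [h]
    _ = (x * x) * (y * y) := by group
    _ = 1 := by rw [hx, hy, one_mul]

theorem cube_of_braid {x y : Γ} (hx : x * x = 1) (hy : y * y = 1) (h : x * y * x = y * x * y) : (x * y) ^ 3 = 1 := by
  calc (x * y) ^ 3 = (x * y * x) * (y * x * y) := by simp only [pow_succ, pow_zero, one_mul, mul_assoc]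
    _ = (y * x * y) * (y * x * y) := by rw [h]
    _ = y * x * (y * y) * x * y := by group
    _ = y * (x * x) * y := by rw [hy]; group
    _ = 1 := by rw [hx, mul_one, hy]

theorem four_of {x y : Γ} (hx : x * x = 1) (hy : y * y = 1) (h : x * y * x * y = y * x * y * x) : (x * y) ^ 4 = 1 := by
  calc (x * y) ^ 4 = (x * y * x * y) * (x * y * x * y) := by simp only [pow_succ, pow_zero, one_mul, mul_assoc]
    _ = (x * y * x * y) * (y * x * y * x) := by rw [h]
    _ = x * y * x * (y * y) * x * y * x := by group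
    _ = x * y * (x * x) * y * x := by rw [hy]; group
    _ = x * (y * y) * x := by rw [hx]; group
    _ = 1 := by rw [hy, mul_one, hx]

/-- The relations in a convenient form. -/
structure Rels (a b c d e f g : Γ) : Prop where
  aa : a * a = 1
  bb : b * b = 1
  cc : c * c = 1
  dd : d * d = 1
  ee : e * e = 1
  ff : f * f = 1
  gg : g * g = 1
  ac : a * c = c * a
  ad : a * d = d * a
  ae : a * e = e * a
  af : a * f = f * a
  ag : a * g = g * a
  bd : b * d = d * b
  be : b * e = e * b
  bf : b * f = f * b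
  bg : b * g = g * b
  ce : c * e = e * c
  cf : c * f = f * c
  cg : c * g = g * c
  ef : e * f = f * e
  eg : e * g = g * e
  ab : a * b * a * b = b * a * b * a
  bc : b * c * b = c * b * c
  de : d * e * d = e * d * e
  df : d * f * d = f * d * f
  dg : d * g * d = g * d * g
  fg : f * g * f * g = e
  abc : a * b * c * (a * b * c) * (a * b * c) = e
  cd : d * c * d * c * d = c * d * c * d * c * a
  cdfg : f * g * c * d * (f * g * c * d) = d * c * g * f * (d * c * g * f)

namespace Rels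

variable {a b c d e f g : Γ} (R : Rels a b c d e f g)
include R

theorem cd5 : (c * d) ^ 5 = a := by
  have h : (c * d) ^ 5 = c * d * c * d * c * (d * c * d * c * d) := by simp only [pow_succ, pow_zero, one_mul, mul_assoc]
  rw [h, R.cd]
  calc c * d * c * d * c * (c * d * c * d * c * a) = c * d * c * d * (c * c) * d * c * d * c * a := by group
    _ = c * d * c * (d * d) * c * d * c * a := by rw [R.cc]; group
    _ = c * d * (c * c) * d * c * a := by rw [R.dd]; group
    _ = c * (d * d) * c * a := by rw [R.cc]; group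
    _ = (c * c) * a := by rw [R.dd]; group
    _ = a := by rw [R.cc, one_mul]

theorem cd10 : (c * d) ^ 10 = 1 := by
  have h : (c * d) ^ 10 = (c * d) ^ 5 * (c * d) ^ 5 := by rw [← pow_add]
  rw [h, R.cd5, R.aa]

theorem fg4 : (f * g) ^ 4 = 1 := by
  have h : (f * g) ^ 4 = (f * g * f * g) * (f * g * f * g) := by simp only [pow_succ, pow_zero, one_mul, mul_assoc]
  rw [h, R.fg, R.ee]

theorem fg2 : (f * g) ^ 2 = e := by
  rw [← R.fg]
  simp only [pow_succ, pow_zero, one_mul, mul_assoc]

theorem abc3 : (a * b * c) ^ 3 = e := by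
  rw [← R.abc]
  simp only [pow_succ, pow_zero, one_mul, mul_assoc]

theorem inv_u : d * c * g * f = (f * g * c * d)⁻¹ := by
  rw [mul_inv_rev, mul_inv_rev, mul_inv_rev, inv_eq_of_mul_eq_one_left R.dd, inv_eq_of_mul_eq_one_left R.cc,
    inv_eq_of_mul_eq_one_left R.gg, inv_eq_of_mul_eq_one_left R.ff]
  group

theorem cdfg4 : (c * d * f * g) ^ 4 = 1 := by
  have h1 : (f * g * c * d) ^ 4 = 1 := by
    have h := R.cdfg
    rw [R.inv_u] at h
    generalize f * g * c * d = u at h
    have h3 : u ^ 4 = (u * u) * (u * u) := by simp only [pow_succ, pow_zero, one_mul, mul_assoc]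
    rw [h3]
    nth_rewrite 1 [h]
    group
  have h2 : c * d * f * g = (f * g)⁻¹ * (f * g * c * d) * (f * g)⁻¹⁻¹ := by group
  rw [h2, conj_pow, h1, mul_one, mul_inv_cancel]

theorem cox (x y : Cfsg.Spor.He.Gen) :
    (gens a b c d e f g x * gens a b c d e f g y) ^ coxLabel Cfsg.Spor.He.edges x y = 1 := by
  have hab : (a * b) ^ 4 = 1 := four_of R.aa R.bb R.ab
  have hbc : (b * c) ^ 3 = 1 := cube_of_braid R.bb R.cc R.bc
  have hcd : (c * d) ^ 10 = 1 := R.cd10
  have hde : (d * e) ^ 3 = 1 := cube_of_braid R.dd R.ee R.de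
  have hdf : (d * f) ^ 3 = 1 := cube_of_braid R.dd R.ff R.df
  have hdg : (d * g) ^ 3 = 1 := cube_of_braid R.dd R.gg R.dg
  have hfg : (f * g) ^ 4 = 1 := R.fg4
  have hac : (a * c) ^ 2 = 1 := sq_of_comm R.aa R.cc R.ac
  have had : (a * d) ^ 2 = 1 := sq_of_comm R.aa R.dd R.ad
  have hae : (a * e) ^ 2 = 1 := sq_of_comm R.aa R.ee R.ae
  have haf : (a * f) ^ 2 = 1 := sq_of_comm R.aa R.ff R.af
  have hag : (a * g) ^ 2 = 1 := sq_of_comm R.aa R.gg R.ag
  have hbd : (b * d) ^ 2 = 1 := sq_of_comm R.bb R.dd R.bd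
  have hbe : (b * e) ^ 2 = 1 := sq_of_comm R.bb R.ee R.be
  have hbf : (b * f) ^ 2 = 1 := sq_of_comm R.bb R.ff R.bf
  have hbg : (b * g) ^ 2 = 1 := sq_of_comm R.bb R.gg R.bg
  have hce : (c * e) ^ 2 = 1 := sq_of_comm R.cc R.ee R.ce
  have hcf : (c * f) ^ 2 = 1 := sq_of_comm R.cc R.ff R.cf
  have hcg : (c * g) ^ 2 = 1 := sq_of_comm R.cc R.gg R.cg
  have hef : (e * f) ^ 2 = 1 := sq_of_comm R.ee R.ff R.ef
  have heg : (e * g) ^ 2 = 1 := sq_of_comm R.ee R.gg R.eg
  cases x <;> cases y
  · have e0 : coxLabel Cfsg.Spor.He.edges .a .a = 1 := by decide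
    rw [e0]
    exact (pow_one _).trans R.aa
  · have e0 : coxLabel Cfsg.Spor.He.edges .a .b = 4 := by decide
    rw [e0]
    exact hab
  · have e0 : coxLabel Cfsg.Spor.He.edges .a .c = 2 := by decide
    rw [e0]
    exact hac
  · have e0 : coxLabel Cfsg.Spor.He.edges .a .d = 2 := by decide
    rw [e0]
    exact had
  · have e0 : coxLabel Cfsg.Spor.He.edges .a .e = 2 := by decide
    rw [e0]
    exact hae
  · have e0 : coxLabel Cfsg.Spor.He.edges .a .f = 2 := by decide
    rw [e0]
    exact haf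
  · have e0 : coxLabel Cfsg.Spor.He.edges .a .g = 2 := by decide
    rw [e0]
    exact hag
  · have e0 : coxLabel Cfsg.Spor.He.edges .b .a = 4 := by decide
    rw [e0]
    exact cox_symm _ _ _ hab R.aa R.bb
  · have e0 : coxLabel Cfsg.Spor.He.edges .b .b = 1 := by decide
    rw [e0]
    exact (pow_one _).trans R.bb
  · have e0 : coxLabel Cfsg.Spor.He.edges .b .c = 3 := by decide
    rw [e0]
    exact hbc
  · have e0 : coxLabel Cfsg.Spor.He.edges .b .d = 2 := by decide
    rw [e0]
    exact hbd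
  · have e0 : coxLabel Cfsg.Spor.He.edges .b .e = 2 := by decide
    rw [e0]
    exact hbe
  · have e0 : coxLabel Cfsg.Spor.He.edges .b .f = 2 := by decide
    rw [e0]
    exact hbf
  · have e0 : coxLabel Cfsg.Spor.He.edges .b .g = 2 := by decide
    rw [e0]
    exact hbg
  · have e0 : coxLabel Cfsg.Spor.He.edges .c .a = 2 := by decide
    rw [e0]
    exact cox_symm _ _ _ hac R.aa R.cc
  · have e0 : coxLabel Cfsg.Spor.He.edges .c .b = 3 := by decide
    rw [e0]
    exact cox_symm _ _ _ hbc R.bb R.cc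
  · have e0 : coxLabel Cfsg.Spor.He.edges .c .c = 1 := by decide
    rw [e0]
    exact (pow_one _).trans R.cc
  · have e0 : coxLabel Cfsg.Spor.He.edges .c .d = 10 := by decide
    rw [e0]
    exact hcd
  · have e0 : coxLabel Cfsg.Spor.He.edges .c .e = 2 := by decide
    rw [e0]
    exact hce
  · have e0 : coxLabel Cfsg.Spor.He.edges .c .f = 2 := by decide
    rw [e0]
    exact hcf
  · have e0 : coxLabel Cfsg.Spor.He.edges .c .g = 2 := by decide
    rw [e0]
    exact hcg
  · have e0 : coxLabel Cfsg.Spor.He.edges .d .a = 2 := by decide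
    rw [e0]
    exact cox_symm _ _ _ had R.aa R.dd
  · have e0 : coxLabel Cfsg.Spor.He.edges .d .b = 2 := by decide
    rw [e0]
    exact cox_symm _ _ _ hbd R.bb R.dd
  · have e0 : coxLabel Cfsg.Spor.He.edges .d .c = 10 := by decide
    rw [e0]
    exact cox_symm _ _ _ hcd R.cc R.dd
  · have e0 : coxLabel Cfsg.Spor.He.edges .d .d = 1 := by decide
    rw [e0]
    exact (pow_one _).trans R.dd
  · have e0 : coxLabel Cfsg.Spor.He.edges .d .e = 3 := by decide
    rw [e0]
    exact hde
  · have e0 : coxLabel Cfsg.Spor.He.edges .d .f = 3 := by decide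
    rw [e0]
    exact hdf
  · have e0 : coxLabel Cfsg.Spor.He.edges .d .g = 3 := by decide
    rw [e0]
    exact hdg
  · have e0 : coxLabel Cfsg.Spor.He.edges .e .a = 2 := by decide
    rw [e0]
    exact cox_symm _ _ _ hae R.aa R.ee
  · have e0 : coxLabel Cfsg.Spor.He.edges .e .b = 2 := by decide
    rw [e0]
    exact cox_symm _ _ _ hbe R.bb R.ee
  · have e0 : coxLabel Cfsg.Spor.He.edges .e .c = 2 := by decide
    rw [e0]
    exact cox_symm _ _ _ hce R.cc R.ee
  · have e0 : coxLabel Cfsg.Spor.He.edges .e .d = 3 := by decide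
    rw [e0]
    exact cox_symm _ _ _ hde R.dd R.ee
  · have e0 : coxLabel Cfsg.Spor.He.edges .e .e = 1 := by decide
    rw [e0]
    exact (pow_one _).trans R.ee
  · have e0 : coxLabel Cfsg.Spor.He.edges .e .f = 2 := by decide
    rw [e0]
    exact hef
  · have e0 : coxLabel Cfsg.Spor.He.edges .e .g = 2 := by decide
    rw [e0]
    exact heg
  · have e0 : coxLabel Cfsg.Spor.He.edges .f .a = 2 := by decide
    rw [e0]
    exact cox_symm _ _ _ haf R.aa R.ff
  · have e0 : coxLabel Cfsg.Spor.He.edges .f .b = 2 := by decide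
    rw [e0]
    exact cox_symm _ _ _ hbf R.bb R.ff
  · have e0 : coxLabel Cfsg.Spor.He.edges .f .c = 2 := by decide
    rw [e0]
    exact cox_symm _ _ _ hcf R.cc R.ff
  · have e0 : coxLabel Cfsg.Spor.He.edges .f .d = 3 := by decide
    rw [e0]
    exact cox_symm _ _ _ hdf R.dd R.ff
  · have e0 : coxLabel Cfsg.Spor.He.edges .f .e = 2 := by decide
    rw [e0]
    exact cox_symm _ _ _ hef R.ee R.ff
  · have e0 : coxLabel Cfsg.Spor.He.edges .f .f = 1 := by decide
    rw [e0]
    exact (pow_one _).trans R.ff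
  · have e0 : coxLabel Cfsg.Spor.He.edges .f .g = 4 := by decide
    rw [e0]
    exact hfg
  · have e0 : coxLabel Cfsg.Spor.He.edges .g .a = 2 := by decide
    rw [e0]
    exact cox_symm _ _ _ hag R.aa R.gg
  · have e0 : coxLabel Cfsg.Spor.He.edges .g .b = 2 := by decide
    rw [e0]
    exact cox_symm _ _ _ hbg R.bb R.gg
  · have e0 : coxLabel Cfsg.Spor.He.edges .g .c = 2 := by decide
    rw [e0]
    exact cox_symm _ _ _ hcg R.cc R.gg
  · have e0 : coxLabel Cfsg.Spor.He.edges .g .d = 3 := by decide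
    rw [e0]
    exact cox_symm _ _ _ hdg R.dd R.gg
  · have e0 : coxLabel Cfsg.Spor.He.edges .g .e = 2 := by decide
    rw [e0]
    exact cox_symm _ _ _ heg R.ee R.gg
  · have e0 : coxLabel Cfsg.Spor.He.edges .g .f = 4 := by decide
    rw [e0]
    exact cox_symm _ _ _ hfg R.ff R.gg
  · have e0 : coxLabel Cfsg.Spor.He.edges .g .g = 1 := by decide
    rw [e0]
    exact (pow_one _).trans R.gg

theorem ev_he : ∀ r ∈ heWs, ev (gens a b c d e f g) r = 1 := by
  intro r hr
  simp only [heWs, List.mem_cons, List.not_mem_nil, or_false] at hr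
  rcases hr with rfl | rfl | rfl | rfl
  · show e * ((f * g) ^ 2)⁻¹ = 1
    rw [R.fg2, mul_inv_cancel]
  · show e * ((a * b * c) ^ 3)⁻¹ = 1
    rw [R.abc3, mul_inv_cancel]
  · show a * ((c * d) ^ 5)⁻¹ = 1
    rw [R.cd5, mul_inv_cancel]
  · exact R.cdfg4

end Rels

end Cfsg.Agent.MonsterX.HeM.Abs
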