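import Cfsg.Agent.MonsterX.HeM.Y1

/-!
Kernel computations for Held's group: `d` is an involution.
-/

set_option autoImplicit false
set_option maxRecDepth 100000
set_option Elab.async false

namespace Cfsg.Agent.MonsterX.HeM.D1

open Cfsg.Agent.Monster.VecEngine Cfsg.Agent.MonsterX.BaseVec Cfsg.Agent.MonsterX.InstData
open Cfsg.Agent.MonsterX.HeM Cfsg.Agent.MonsterX.HeM.Words

/-- `d v = y1`. -/
theorem t1 : check pd (up 9 vB) [] Y1.y = true := by decide +kernel

/-- `d y1 = v`. -/
theorem t2 : check pd Y1.y [] (up 9 vB) = true := by decide +kernel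

end Cfsg.Agent.MonsterX.HeM.D1
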