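import Cfsg.Agent.MonsterX.HeM.D1

/-!
Kernel computations for Held's group: `d` commutes with `a`, `b`.
-/

set_option autoImplicit false
set_option maxRecDepth 100000
set_option Elab.async false

namespace Cfsg.Agent.MonsterX.HeM.D2

open Cfsg.Agent.Monster.VecEngine Cfsg.Agent.MonsterX.BaseVec Cfsg.Agent.MonsterX.InstData
open Cfsg.Agent.MonsterX.HeM Cfsg.Agent.MonsterX.HeM.Words

/-- `d a v = a y1`. -/
theorem t3 : check (pa ++ pd) (up 9 vB) pa Y1.y = true := by decide +kernel

/-- `d b v = b y1`. -/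
theorem t4 : check (pb ++ pd) (up 9 vB) pb Y1.y = true := by decide +kernel

end Cfsg.Agent.MonsterX.HeM.D2
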