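import Cfsg.Agent.MonsterX.HeM.DX
import Cfsg.Agent.MonsterX.HeM.ZE

/-!
Kernel computations for Held's group: `(d e)^3`.
-/

set_option autoImplicit false
set_option maxRecDepth 100000
set_option Elab.async false

namespace Cfsg.Agent.MonsterX.HeM.D3

open Cfsg.Agent.Monster.VecEngine Cfsg.Agent.MonsterX.BaseVec Cfsg.Agent.MonsterX.InstData
open Cfsg.Agent.MonsterX.HeM Cfsg.Agent.MonsterX.HeM.Words

/-- `z = d e d v`. -/
theorem t6 : check (pe ++ pd) Y1.y [] ZE.y = true := by decide +kernel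

/-- `z = e d e v`. -/
theorem t6' : check (pe ++ (pd ++ pe)) (up 9 vB) [] ZE.y = true := by decide +kernel

end Cfsg.Agent.MonsterX.HeM.D3
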