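import Cfsg.Agent.MonsterX.HeM.D3
import Cfsg.Agent.MonsterX.HeM.ZF

/-!
Kernel computations for Held's group: `(d f)^3`.
-/

set_option autoImplicit false
set_option maxRecDepth 100000
set_option Elab.async false

namespace Cfsg.Agent.MonsterX.HeM.D4

open Cfsg.Agent.Monster.VecEngine Cfsg.Agent.MonsterX.BaseVec Cfsg.Agent.MonsterX.InstData
open Cfsg.Agent.MonsterX.HeM Cfsg.Agent.MonsterX.HeM.Words

/-- `z = d f d v`. -/
theorem t7 : check (pf ++ pd) Y1.y [] ZF.y = true := by decide +kernel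

/-- `z = f d f v`. -/
theorem t7' : check (pf ++ (pd ++ pf)) (up 9 vB) [] ZF.y = true := by decide +kernel

end Cfsg.Agent.MonsterX.HeM.D4
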