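import Cfsg.Agent.MonsterX.HeM.D4
import Cfsg.Agent.MonsterX.HeM.ZG

/-!
Kernel computations for Held's group: `(d g)^3`.
-/

set_option autoImplicit false
set_option maxRecDepth 100000
set_option Elab.async false

namespace Cfsg.Agent.MonsterX.HeM.D5

open Cfsg.Agent.Monster.VecEngine Cfsg.Agent.MonsterX.BaseVec Cfsg.Agent.MonsterX.InstData
open Cfsg.Agent.MonsterX.HeM Cfsg.Agent.MonsterX.HeM.Words

/-- `z = d g d v`. -/
theorem t8 : check (pg ++ pd) (up 1 Y1.y) [] ZG.y = true := by decide +kernel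

/-- `z = g d g v`. -/
theorem t8' : check (pg ++ (pd ++ pg)) (up 10 vB) [] ZG.y = true := by decide +kernel

end Cfsg.Agent.MonsterX.HeM.D5
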