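import Cfsg.Agent.MonsterX.HeM.D5
import Cfsg.Agent.MonsterX.HeM.Y5
import Cfsg.Agent.MonsterX.HeM.Y7

/-!
Kernel computations for Held's group: `(c d)^5`, first part.
-/

set_option autoImplicit false
set_option maxRecDepth 100000
set_option Elab.async false

namespace Cfsg.Agent.MonsterX.HeM.D6

open Cfsg.Agent.Monster.VecEngine Cfsg.Agent.MonsterX.BaseVec Cfsg.Agent.MonsterX.InstData
open Cfsg.Agent.MonsterX.HeM Cfsg.Agent.MonsterX.HeM.Words

/-- `y5 = d c d v`. -/
theorem t9 : check (pc ++ pd) (up 1 Y1.y) [] Y5.y = true := by decide +kernel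

/-- `y7 = d c a v`. -/
theorem t10 : check (pa ++ (pc ++ pd)) (up 10 vB) [] Y7.y = true := by decide +kernel

end Cfsg.Agent.MonsterX.HeM.D6
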