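import Cfsg.Agent.MonsterX.HeM.D7
import Cfsg.Agent.MonsterX.HeM.Y6
import Cfsg.Agent.MonsterX.HeM.Y8

/-!
Kernel computations for Held's group: `(c d f g)^4`, first part.
-/

set_option autoImplicit false
set_option maxRecDepth 100000
set_option Elab.async false

namespace Cfsg.Agent.MonsterX.HeM.D8

open Cfsg.Agent.Monster.VecEngine Cfsg.Agent.MonsterX.BaseVec Cfsg.Agent.MonsterX.InstData
open Cfsg.Agent.MonsterX.HeM Cfsg.Agent.MonsterX.HeM.Words

/-- `y6 = d f g c d v`. -/
theorem t12 : check (pc ++ (pg ++ (pf ++ pd))) (up 1 Y1.y) [] Y6.y = true := by decide +kernel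

/-- `y8 = d c g f v`. -/
theorem t12' : check (pf ++ (pg ++ (pc ++ pd))) (up 10 vB) [] Y8.y = true := by decide +kernel

end Cfsg.Agent.MonsterX.HeM.D8
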