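import Cfsg.Agent.MonsterX.HeM.Words

/-!
The relations between the monomial elements `a b c e f g x`.
-/

set_option autoImplicit false
set_option maxRecDepth 100000
set_option Elab.async false

namespace Cfsg.Agent.MonsterX.HeM.Mono

open Cfsg.Agent.Monster.VecEngine Cfsg.Agent.Monster.VecSpace Cfsg.Agent.MonsterX.Space
open Cfsg.Agent.MonsterX.ProgTable Cfsg.Agent.MonsterX.ProgBase Cfsg.Agent.MonsterX.ProgM.Base
open Cfsg.Agent.MonsterX.Conc Cfsg.Agent.MonsterX.InstData Cfsg.Agent.MonsterX.HeM.Words Cfsg.Agent.MonsterX.BaseVec

theorem aa : same (pa ++ pa) [] = true := by decide +kernel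
theorem bb : same (pb ++ pb) [] = true := by decide +kernel
theorem cc : same (pc ++ pc) [] = true := by decide +kernel
theorem ee : same (pe ++ pe) [] = true := by decide +kernel
theorem ff : same (pf ++ pf) [] = true := by decide +kernel
theorem gg : same (pg ++ pg) [] = true := by decide +kernel
theorem ac : same (pa ++ pc) (pc ++ pa) = true := by decide +kernel
theorem ae : same (pa ++ pe) (pe ++ pa) = true := by decide +kernel
theorem af : same (pa ++ pf) (pf ++ pa) = true := by decide +kernel
theorem ag : same (pa ++ pg) (pg ++ pa) = true := by decide +kernel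
theorem be : same (pb ++ pe) (pe ++ pb) = true := by decide +kernel
theorem bf : same (pb ++ pf) (pf ++ pb) = true := by decide +kernel
theorem bg : same (pb ++ pg) (pg ++ pb) = true := by decide +kernel
theorem ce : same (pc ++ pe) (pe ++ pc) = true := by decide +kernel
theorem cf : same (pc ++ pf) (pf ++ pc) = true := by decide +kernel
theorem cg : same (pc ++ pg) (pg ++ pc) = true := by decide +kernel
theorem ef : same (pe ++ pf) (pf ++ pe) = true := by decide +kernel
theorem eg : same (pe ++ pg) (pg ++ pe) = true := by decide +kernel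
theorem xa : same (px ++ pa) (pa ++ px) = true := by decide +kernel
theorem xb : same (px ++ pb) (pb ++ px) = true := by decide +kernel
theorem xc : same (px ++ pc) (pc ++ px) = true := by decide +kernel
theorem xe : same (px ++ pe) (pe ++ px) = true := by decide +kernel
theorem xf : same (px ++ pf) (pf ++ px) = true := by decide +kernel
theorem xg : same (px ++ pg) (pg ++ px) = true := by decide +kernel

/-- `(a b)^2 = (b a)^2` -/
theorem ab4 : same (pb ++ (pa ++ (pb ++ pa))) (pa ++ (pb ++ (pa ++ pb))) = true := by decide +kernel

/-- `b c b = c b c` -/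
theorem bc3 : same (pb ++ (pc ++ pb)) (pc ++ (pb ++ pc)) = true := by decide +kernel

/-- `(f g)^2 = e` -/
theorem fg2 : same (pg ++ (pf ++ (pg ++ pf))) pe = true := by decide +kernel

/-- `(a b c)^3 = e` -/
theorem abc3 : same (pc ++ (pb ++ (pa ++ (pc ++ (pb ++ (pa ++ (pc ++ (pb ++ pa)))))))) pe = true := by decide +kernel

/-- `x^7 = 1` -/
theorem x7 : same (px ++ (px ++ (px ++ (px ++ (px ++ (px ++ px)))))) [] = true := by decide +kernel

end Cfsg.Agent.MonsterX.HeM.Mono
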