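import Cfsg.Agent.MonsterX.HeM.D9
import Cfsg.Agent.MonsterX.HeM.Mono
import Cfsg.Agent.MonsterX.HeM.Abs

/-!
Held's group in the centraliser of an element of order 7 of the group `G` of the 196884-dimensional model.
-/

set_option autoImplicit false
set_option maxRecDepth 100000
set_option Elab.async false

namespace Cfsg.Agent.MonsterX.HeM.Main

open Cfsg.Agent.Monster.VecEngine Cfsg.Agent.Monster.VecSpace Cfsg.Agent.MonsterX.Space
open Cfsg.Agent.MonsterX.ProgTable Cfsg.Agent.MonsterX.GensT Cfsg.Agent.MonsterX.ProgBase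
open Cfsg.Agent.MonsterX.Conc Cfsg.Agent.MonsterX.Model Cfsg.Agent.MonsterX.InstData Cfsg.Agent.MonsterX.ProgM.Base
open Cfsg.Agent.MonsterX.InstEval Cfsg.Agent.MonsterX.BaseVec Cfsg.Agent.MonsterX.HeM.Words Cfsg.Agent.MonsterX

/-! ### The programs -/

theorem WP_mem {l : List Prog} (h : ∀ P ∈ l, GoodT P) (h' : ∀ P ∈ l, EP P ∈ G) : WP l ∈ G := by
  induction l with
  | nil => rw [WP_nil]; exact G.one_mem
  | cons P l ih =>
    rw [WP_cons (h P List.mem_cons_self) fun Q hQ => h Q (List.mem_cons_of_mem _ hQ)]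
    exact G.mul_mem (ih (fun Q hQ => h Q (List.mem_cons_of_mem _ hQ)) fun Q hQ => h' Q (List.mem_cons_of_mem _ hQ))
      (h' P List.mem_cons_self)

/-- A good program in the group. -/
def OK (P : Prog) : Prop := GoodT P ∧ (E 41 * E 40 = 1 → EP P ∈ G)

theorem ok_n {n : ℕ} (h : n < 46) : OK (prog n) := ⟨prog_goodT n, fun h41 => E_mem_G' h41 h⟩

theorem ok_N {P : Prog} (h : GoodT P) (h' : EP P ∈ N) : OK P := ⟨h, fun _ => C_le_G (N_le_C h')⟩

theorem ok_a : ∀ P ∈ pa, OK P := by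
  intro P hP
  simp only [pa, List.mem_cons, List.not_mem_nil, or_false] at hP
  rcases hP with rfl | rfl | rfl | rfl | rfl | rfl | rfl
  · exact ok_n (n := 13) (by norm_num)
  · exact ok_n (n := 15) (by norm_num)
  · exact ok_n (n := 17) (by norm_num)
  · exact ok_n (n := 19) (by norm_num)
  · exact ok_n (n := 20) (by norm_num)
  · exact ok_n (n := 22) (by norm_num)
  · exact ok_n (n := 45) (by norm_num)

theorem good_a : ∀ P ∈ pa, GoodT P := fun P hP => (ok_a P hP).1

/-- The element `a`. -/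
noncomputable def A0 : V ≃ₗ[ℚ] V := WP pa

theorem mem_a (h41 : E 41 * E 40 = 1) : A0 ∈ G := WP_mem good_a fun P hP => (ok_a P hP).2 h41

theorem ok_b : ∀ P ∈ pb, OK P := by
  intro P hP
  simp only [pb, List.mem_cons, List.not_mem_nil, or_false] at hP
  subst hP
  exact ok_N ProgM.Heb.goodT ProgM.Heb.mem_N

theorem good_b : ∀ P ∈ pb, GoodT P := fun P hP => (ok_b P hP).1

/-- The element `b`. -/
noncomputable def B0 : V ≃ₗ[ℚ] V := WP pb

theorem mem_b (h41 : E 41 * E 40 = 1) : B0 ∈ G := WP_mem good_b fun P hP => (ok_b P hP).2 h41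

theorem ok_c : ∀ P ∈ pc, OK P := by
  intro P hP
  simp only [pc, List.mem_cons, List.not_mem_nil, or_false] at hP
  subst hP
  exact ok_N ProgM.Hec.goodT ProgM.Hec.mem_N

theorem good_c : ∀ P ∈ pc, GoodT P := fun P hP => (ok_c P hP).1

/-- The element `c`. -/
noncomputable def C0 : V ≃ₗ[ℚ] V := WP pc

theorem mem_c (h41 : E 41 * E 40 = 1) : C0 ∈ G := WP_mem good_c fun P hP => (ok_c P hP).2 h41

theorem ok_d : ∀ P ∈ pd, OK P := by
  intro P hP
  simp only [pd, List.mem_cons, List.not_mem_nil, or_false] at hP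
  rcases hP with rfl | rfl | rfl | rfl | rfl | rfl | rfl | rfl | rfl | rfl | rfl | rfl | rfl | rfl | rfl | rfl | rfl | rfl | rfl | rfl | rfl | rfl | rfl | rfl | rfl | rfl | rfl | rfl | rfl | rfl | rfl
  · exact ok_n (n := 40) (by norm_num)
  · exact ok_N ProgM.Hes3.goodT ProgM.Hes3.mem_N
  · exact ok_n (n := 39) (by norm_num)
  · exact ok_N ProgM.Hep2i.goodT ProgM.Hep2i.mem_N
  · exact ok_n (n := 39) (by norm_num)
  · exact ok_N ProgM.Hes13.goodT ProgM.Hes13.mem_N
  · exact ok_n (n := 40) (by norm_num)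
  · exact ok_N ProgM.Hes12.goodT ProgM.Hes12.mem_N
  · exact ok_n (n := 39) (by norm_num)
  · exact ok_N ProgM.Hep2.goodT ProgM.Hep2.mem_N
  · exact ok_n (n := 39) (by norm_num)
  · exact ok_N ProgM.Hes10.goodT ProgM.Hes10.mem_N
  · exact ok_n (n := 40) (by norm_num)
  · exact ok_N ProgM.Hes9.goodT ProgM.Hes9.mem_N
  · exact ok_n (n := 39) (by norm_num)
  · exact ok_N ProgM.Hep2.goodT ProgM.Hep2.mem_N
  · exact ok_n (n := 39) (by norm_num)
  · exact ok_N ProgM.Hes7.goodT ProgM.Hes7.mem_N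
  · exact ok_n (n := 41) (by norm_num)
  · exact ok_N ProgM.Hes3.goodT ProgM.Hes3.mem_N
  · exact ok_n (n := 39) (by norm_num)
  · exact ok_N ProgM.Hep2i.goodT ProgM.Hep2i.mem_N
  · exact ok_n (n := 39) (by norm_num)
  · exact ok_N ProgM.Hes4.goodT ProgM.Hes4.mem_N
  · exact ok_n (n := 41) (by norm_num)
  · exact ok_N ProgM.Hes3.goodT ProgM.Hes3.mem_N
  · exact ok_n (n := 39) (by norm_num)
  · exact ok_N ProgM.Hep2i.goodT ProgM.Hep2i.mem_N
  · exact ok_n (n := 39) (by norm_num)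
  · exact ok_N ProgM.Hes1.goodT ProgM.Hes1.mem_N
  · exact ok_n (n := 41) (by norm_num)

theorem good_d : ∀ P ∈ pd, GoodT P := fun P hP => (ok_d P hP).1

/-- The element `d`. -/
noncomputable def D0 : V ≃ₗ[ℚ] V := WP pd

theorem mem_d (h41 : E 41 * E 40 = 1) : D0 ∈ G := WP_mem good_d fun P hP => (ok_d P hP).2 h41

theorem ok_e : ∀ P ∈ pe, OK P := by
  intro P hP
  simp only [pe, List.mem_cons, List.not_mem_nil, or_false] at hP
  subst hP
  exact ok_n (n := 45) (by norm_num)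

theorem good_e : ∀ P ∈ pe, GoodT P := fun P hP => (ok_e P hP).1

/-- The element `e`. -/
noncomputable def E0 : V ≃ₗ[ℚ] V := WP pe

theorem mem_e (h41 : E 41 * E 40 = 1) : E0 ∈ G := WP_mem good_e fun P hP => (ok_e P hP).2 h41

theorem ok_f : ∀ P ∈ pf, OK P := by
  intro P hP
  simp only [pf, List.mem_cons, List.not_mem_nil, or_false] at hP
  subst hP
  exact ok_n (n := 0) (by norm_num)

theorem good_f : ∀ P ∈ pf, GoodT P := fun P hP => (ok_f P hP).1

/-- The element `f`. -/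
noncomputable def F0 : V ≃ₗ[ℚ] V := WP pf

theorem mem_f (h41 : E 41 * E 40 = 1) : F0 ∈ G := WP_mem good_f fun P hP => (ok_f P hP).2 h41

theorem ok_g : ∀ P ∈ pg, OK P := by
  intro P hP
  simp only [pg, List.mem_cons, List.not_mem_nil, or_false] at hP
  rcases hP with rfl | rfl | rfl | rfl | rfl | rfl
  · exact ok_n (n := 12) (by norm_num)
  · exact ok_n (n := 14) (by norm_num)
  · exact ok_n (n := 16) (by norm_num)
  · exact ok_n (n := 19) (by norm_num)
  · exact ok_n (n := 22) (by norm_num)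
  · exact ok_n (n := 23) (by norm_num)

theorem good_g : ∀ P ∈ pg, GoodT P := fun P hP => (ok_g P hP).1

/-- The element `g`. -/
noncomputable def G0 : V ≃ₗ[ℚ] V := WP pg

theorem mem_g (h41 : E 41 * E 40 = 1) : G0 ∈ G := WP_mem good_g fun P hP => (ok_g P hP).2 h41

theorem ok_x : ∀ P ∈ px, OK P := by
  intro P hP
  simp only [px, List.mem_cons, List.not_mem_nil, or_false] at hP
  subst hP
  exact ok_N ProgM.Hex.goodT ProgM.Hex.mem_N

theorem good_x : ∀ P ∈ px, GoodT P := fun P hP => (ok_x P hP).1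

/-- The element `x`. -/
noncomputable def X0 : V ≃ₗ[ℚ] V := WP px

theorem mem_x (h41 : E 41 * E 40 = 1) : X0 ∈ G := WP_mem good_x fun P hP => (ok_x P hP).2 h41

theorem good_app {l l' : List Prog} (h : ∀ P ∈ l, GoodT P) (h' : ∀ P ∈ l', GoodT P) : ∀ P ∈ l ++ l', GoodT P := by
  intro P hP
  rcases List.mem_append.1 hP with h1 | h1
  · exact h P h1
  · exact h' P h1

theorem good_nil : ∀ P ∈ ([] : List Prog), GoodT P := fun P hP => absurd hP (by simp)

/-- Words with their value. -/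
structure Val (l : List Prog) (g : V ≃ₗ[ℚ] V) : Prop where
  good : ∀ P ∈ l, GoodT P
  eq : WP l = g

theorem Val.app {l l' : List Prog} {g g' : V ≃ₗ[ℚ] V} (h : Val l g) (h' : Val l' g') : Val (l ++ l') (g' * g) :=
  ⟨good_app h.good h'.good, by rw [WP_append h.good h'.good, h.eq, h'.eq]⟩

theorem Val.nil : Val [] 1 := ⟨good_nil, WP_nil⟩

theorem Val.same {l l' : List Prog} {g g' : V ≃ₗ[ℚ] V} (h : Val l g) (h' : Val l' g') (hs : same l l' = true) :
    g = g' := by
  rw [← h.eq, ← h'.eq]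
  exact same_sound h.good h'.good hs

theorem Val.check {l l' : List Prog} {g g' : V ≃ₗ[ℚ] V} (h : Val l g) (h' : Val l' g') {x x' : Pl}
    (hs : check l x l' x' = true) : g (vecV x) = g' (vecV x') := by
  rw [← h.eq, ← h'.eq]
  exact WP_eq_of_check h.good h'.good hs

theorem va : Val pa A0 := ⟨good_a, rfl⟩
theorem vb : Val pb B0 := ⟨good_b, rfl⟩
theorem vc : Val pc C0 := ⟨good_c, rfl⟩
theorem vd : Val pd D0 := ⟨good_d, rfl⟩
theorem ve : Val pe E0 := ⟨good_e, rfl⟩
theorem vf : Val pf F0 := ⟨good_f, rfl⟩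
theorem vg : Val pg G0 := ⟨good_g, rfl⟩
theorem vx : Val px X0 := ⟨good_x, rfl⟩

/-! ### Monomial relations -/

theorem sq_a : A0 * A0 = 1 := (va.app va).same Val.nil Mono.aa
theorem sq_b : B0 * B0 = 1 := (vb.app vb).same Val.nil Mono.bb
theorem sq_c : C0 * C0 = 1 := (vc.app vc).same Val.nil Mono.cc
theorem sq_e : E0 * E0 = 1 := (ve.app ve).same Val.nil Mono.ee
theorem sq_f : F0 * F0 = 1 := (vf.app vf).same Val.nil Mono.ff
theorem sq_g : G0 * G0 = 1 := (vg.app vg).same Val.nil Mono.gg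
theorem c_ac : A0 * C0 = C0 * A0 := ((va.app vc).same (vc.app va) Mono.ac).symm
theorem c_ae : A0 * E0 = E0 * A0 := ((va.app ve).same (ve.app va) Mono.ae).symm
theorem c_af : A0 * F0 = F0 * A0 := ((va.app vf).same (vf.app va) Mono.af).symm
theorem c_ag : A0 * G0 = G0 * A0 := ((va.app vg).same (vg.app va) Mono.ag).symm
theorem c_be : B0 * E0 = E0 * B0 := ((vb.app ve).same (ve.app vb) Mono.be).symm
theorem c_bf : B0 * F0 = F0 * B0 := ((vb.app vf).same (vf.app vb) Mono.bf).symm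
theorem c_bg : B0 * G0 = G0 * B0 := ((vb.app vg).same (vg.app vb) Mono.bg).symm
theorem c_ce : C0 * E0 = E0 * C0 := ((vc.app ve).same (ve.app vc) Mono.ce).symm
theorem c_cf : C0 * F0 = F0 * C0 := ((vc.app vf).same (vf.app vc) Mono.cf).symm
theorem c_cg : C0 * G0 = G0 * C0 := ((vc.app vg).same (vg.app vc) Mono.cg).symm
theorem c_ef : E0 * F0 = F0 * E0 := ((ve.app vf).same (vf.app ve) Mono.ef).symm
theorem c_eg : E0 * G0 = G0 * E0 := ((ve.app vg).same (vg.app ve) Mono.eg).symm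
theorem c_xa : X0 * A0 = A0 * X0 := ((vx.app va).same (va.app vx) Mono.xa).symm
theorem c_xb : X0 * B0 = B0 * X0 := ((vx.app vb).same (vb.app vx) Mono.xb).symm
theorem c_xc : X0 * C0 = C0 * X0 := ((vx.app vc).same (vc.app vx) Mono.xc).symm
theorem c_xe : X0 * E0 = E0 * X0 := ((vx.app ve).same (ve.app vx) Mono.xe).symm
theorem c_xf : X0 * F0 = F0 * X0 := ((vx.app vf).same (vf.app vx) Mono.xf).symm
theorem c_xg : X0 * G0 = G0 * X0 := ((vx.app vg).same (vg.app vx) Mono.xg).symm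

theorem r_ab : A0 * B0 * A0 * B0 = B0 * A0 * B0 * A0 := by
  have h := (vb.app (va.app (vb.app va))).same (va.app (vb.app (va.app vb))) Mono.ab4
  exact h

theorem r_bc : B0 * C0 * B0 = C0 * B0 * C0 := by
  have h := (vb.app (vc.app vb)).same (vc.app (vb.app vc)) Mono.bc3
  exact h

theorem r_fg : F0 * G0 * F0 * G0 = E0 := by
  have h := (vg.app (vf.app (vg.app vf))).same ve Mono.fg2
  exact h

theorem r_abc : A0 * B0 * C0 * (A0 * B0 * C0) * (A0 * B0 * C0) = E0 := by
  have h := (vc.app (vb.app (va.app (vc.app (vb.app (va.app (vc.app (vb.app va)))))))).same ve Mono.abc3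
  rw [← h]
  simp only [mul_assoc]

theorem r_x : X0 ^ 7 = 1 := by
  have h := (vx.app (vx.app (vx.app (vx.app (vx.app (vx.app vx)))))).same Val.nil Mono.x7
  rw [← h]
  simp only [pow_succ, pow_zero, one_mul]

/-! ### Relations with `d` -/

/-- The base vector. -/
noncomputable def v : V := vecV vB

theorem up_v (n : ℕ) : vecV (up n vB) = (2 : ℚ) ^ n • v := vecV_up n vB

theorem cancel {n : ℕ} {x y : V} (h : (2 : ℚ) ^ n • x = (2 : ℚ) ^ n • y) : x = y :=
  smul_right_injective V (pow_ne_zero n (two_ne_zero : (2 : ℚ) ≠ 0)) h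

theorem y1_eq : vecV Y1.y = (2 : ℚ) ^ 9 • D0 v := by
  have h := vd.check Val.nil D1.t1
  rw [up_v, map_smul] at h
  exact h.symm

theorem y1_up : vecV (up 1 Y1.y) = (2 : ℚ) ^ 10 • D0 v := by
  rw [vecV_up, y1_eq, smul_smul]
  norm_num

theorem e_dd : (D0 * D0) v = (1 : V ≃ₗ[ℚ] V) v := by
  have h := vd.check Val.nil D1.t2
  rw [y1_eq, up_v, map_smul] at h
  exact cancel h

theorem e_ad : (D0 * A0) v = (A0 * D0) v := by
  have h := (va.app vd).check va D2.t3
  rw [y1_eq, up_v, map_smul, map_smul] at h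
  exact cancel h

theorem e_bd : (D0 * B0) v = (B0 * D0) v := by
  have h := (vb.app vd).check vb D2.t4
  rw [y1_eq, up_v, map_smul, map_smul] at h
  exact cancel h

theorem e_xd : (D0 * X0) v = (X0 * D0) v := by
  have h := (vx.app vd).check vx DX.t5
  rw [y1_eq, up_v, map_smul, map_smul] at h
  exact cancel h

theorem e_de : (D0 * E0 * D0) v = (E0 * D0 * E0) v := by
  have h := ((ve.app vd).check Val.nil D3.t6).trans ((ve.app (vd.app ve)).check Val.nil D3.t6').symm
  rw [y1_eq, up_v, map_smul, map_smul] at h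
  exact cancel h

theorem e_df : (D0 * F0 * D0) v = (F0 * D0 * F0) v := by
  have h := ((vf.app vd).check Val.nil D4.t7).trans ((vf.app (vd.app vf)).check Val.nil D4.t7').symm
  rw [y1_eq, up_v, map_smul, map_smul] at h
  exact cancel h

theorem e_dg : (D0 * G0 * D0) v = (G0 * D0 * G0) v := by
  have h := ((vg.app vd).check Val.nil D5.t8).trans ((vg.app (vd.app vg)).check Val.nil D5.t8').symm
  rw [y1_up, up_v, map_smul, map_smul] at h
  exact cancel h

theorem y5_eq : vecV Y5.y = (2 : ℚ) ^ 10 • (D0 * C0 * D0) v := by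
  have h := (vc.app vd).check Val.nil D6.t9
  rw [y1_up, map_smul] at h
  exact h.symm

theorem y7_eq : vecV Y7.y = (2 : ℚ) ^ 10 • (D0 * C0 * A0) v := by
  have h := (va.app (vc.app vd)).check Val.nil D6.t10
  rw [up_v, map_smul] at h
  exact h.symm

theorem e_cd : (D0 * C0 * D0 * C0 * D0) v = (C0 * D0 * C0 * D0 * C0 * A0) v := by
  have h := ((vc.app vd).check Val.nil D7.t11).trans ((vc.app (vd.app vc)).check Val.nil D7.t11').symm
  rw [y5_eq, y7_eq, map_smul, map_smul] at h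
  exact cancel h

theorem y6_eq : vecV Y6.y = (2 : ℚ) ^ 10 • (D0 * F0 * G0 * C0 * D0) v := by
  have h := (vc.app (vg.app (vf.app vd))).check Val.nil D8.t12
  rw [y1_up, map_smul] at h
  exact h.symm

theorem y8_eq : vecV Y8.y = (2 : ℚ) ^ 10 • (D0 * C0 * G0 * F0) v := by
  have h := (vf.app (vg.app (vc.app vd))).check Val.nil D8.t12'
  rw [up_v, map_smul] at h
  exact h.symm

theorem e_cdfg : (F0 * G0 * C0 * D0 * (F0 * G0 * C0 * D0)) v = (D0 * C0 * G0 * F0 * (D0 * C0 * G0 * F0)) v := by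
  have h := (vc.app (vg.app vf)).check (vf.app (vg.app (vc.app vd))) D9.t13
  rw [y6_eq, y8_eq, map_smul, map_smul] at h
  exact cancel h

/-! ### The subgroup -/

section

variable {K₀ : Type} [Group K₀] (P : Pack K₀)
include P

theorem rels : Abs.Rels A0 B0 C0 D0 E0 F0 G0 := by
  have ha := mem_a P.tau
  have hb := mem_b P.tau
  have hc := mem_c P.tau
  have hd := mem_d P.tau
  have he := mem_e P.tau
  have hf := mem_f P.tau
  have hg := mem_g P.tau
  have m := fun (x y : V ≃ₗ[ℚ] V) (hx : x ∈ G) (hy : y ∈ G) => G.mul_mem hx hy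
  have hdd : D0 * D0 = 1 := P.eq_of_eq (m _ _ hd hd) G.one_mem e_dd
  exact
  { aa := sq_a
    bb := sq_b
    cc := sq_c
    dd := hdd
    ee := sq_e
    ff := sq_f
    gg := sq_g
    ac := c_ac
    ad := (P.eq_of_eq (m _ _ hd ha) (m _ _ ha hd) e_ad).symm
    ae := c_ae
    af := c_af
    ag := c_ag
    bd := (P.eq_of_eq (m _ _ hd hb) (m _ _ hb hd) e_bd).symm
    be := c_be
    bf := c_bf
    bg := c_bg
    ce := c_ce
    cf := c_cf
    cg := c_cg
    ef := c_ef
    eg := c_eg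
    ab := r_ab
    bc := r_bc
    de := P.eq_of_eq (m _ _ (m _ _ hd he) hd) (m _ _ (m _ _ he hd) he) e_de
    df := P.eq_of_eq (m _ _ (m _ _ hd hf) hd) (m _ _ (m _ _ hf hd) hf) e_df
    dg := P.eq_of_eq (m _ _ (m _ _ hd hg) hd) (m _ _ (m _ _ hg hd) hg) e_dg
    fg := r_fg
    abc := r_abc
    cd := P.eq_of_eq (m _ _ (m _ _ (m _ _ (m _ _ hd hc) hd) hc) hd)
      (m _ _ (m _ _ (m _ _ (m _ _ (m _ _ hc hd) hc) hd) hc) ha) e_cd
    cdfg := by
      have h1 := m _ _ (m _ _ (m _ _ hf hg) hc) hd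
      have h2 := m _ _ (m _ _ (m _ _ hd hc) hg) hf
      exact P.eq_of_eq (m _ _ h1 h1) (m _ _ h2 h2) e_cdfg }

theorem x_comm (t : Cfsg.Spor.He.Gen) : X0 * Abs.gens A0 B0 C0 D0 E0 F0 G0 t = Abs.gens A0 B0 C0 D0 E0 F0 G0 t * X0 := by
  cases t
  · exact c_xa
  · exact c_xb
  · exact c_xc
  · exact (P.eq_of_eq (G.mul_mem (mem_d P.tau) (mem_x P.tau)) (G.mul_mem (mem_x P.tau) (mem_d P.tau)) e_xd).symm
  · exact c_xe
  · exact c_xf
  · exact c_xg

theorem gens_mem (t : Cfsg.Spor.He.Gen) : Abs.gens A0 B0 C0 D0 E0 F0 G0 t ∈ G := by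
  cases t
  · exact mem_a P.tau
  · exact mem_b P.tau
  · exact mem_c P.tau
  · exact mem_d P.tau
  · exact mem_e P.tau
  · exact mem_f P.tau
  · exact mem_g P.tau

omit P [Group K₀] in
theorem x_ne : X0 ≠ 1 := by
  intro h
  have h1 : X0 (vecV (oneP 65536)) = (1 : V ≃ₗ[ℚ] V) (vecV (oneP 65544)) :=
    vx.check Val.nil (by decide +kernel)
  rw [h] at h1
  have h4 : vecV (oneP 65536) = vecV (oneP 65544) := h1
  have s1 : sym (oneP 65536) = true := by decide +kernel
  have s2 : sym (oneP 65544) = true := by decide +kernel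
  let i : Lane U := ⟨65536, by decide +kernel⟩
  have h2 : (vecV (oneP 65536) : Lane U → ℚ) i = 1 := (one_apply s1 i).trans (if_pos rfl)
  have h3 : (vecV (oneP 65536) : Lane U → ℚ) i = 0 := by
    rw [h4]
    exact (one_apply s2 i).trans (if_neg (show ¬ (65536 : ℕ) = 65544 by norm_num))
  rw [h2] at h3
  exact one_ne_zero h3

omit P [Group K₀] in
theorem e_ne : E0 ≠ 1 := by
  intro h
  have h0 : E0 = z := by
    show WP [prog 45] = _
    rw [WP_single]
    rfl
  have h1 := s_neg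
  rw [show M.z = z from rfl, ← h0, h] at h1
  have h2 : B.s = - B.s := h1
  have h3 : (2 : ℚ) • B.s = 0 := by
    rw [two_smul]
    nth_rewrite 1 [h2]
    exact neg_add_cancel _
  exact s_ne ((smul_eq_zero.1 h3).resolve_left (by norm_num))

/-- **Held's group in the centraliser of an element of order 7** (`h7` of `ThreeCPack.S0470_of`). -/
theorem he_part (hs : Cfsg.IsHe Cfsg.Spor.He) :
    ∃ x : G, orderOf x = 7 ∧ ∃ K : Subgroup G, K ≤ Subgroup.centralizer ({x} : Set G) ∧ Cfsg.IsHe K :=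
  WordsCodeM.he_part hs (Abs.gens A0 B0 C0 D0 E0 F0 G0) (gens_mem P) (rels P).cox (rels P).ev_he ⟨.e, e_ne⟩
    X0 (mem_x P.tau) r_x x_ne (x_comm P)

end

end Cfsg.Agent.MonsterX.HeM.Main
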