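import Cfsg.Agent.MonsterX.BaseVec
import Cfsg.Agent.MonsterX.ProgM.Hex
import Cfsg.Agent.MonsterX.ProgM.Heb
import Cfsg.Agent.MonsterX.ProgM.Hec
import Cfsg.Agent.MonsterX.ProgM.Hes1
import Cfsg.Agent.MonsterX.ProgM.Hes3
import Cfsg.Agent.MonsterX.ProgM.Hes4
import Cfsg.Agent.MonsterX.ProgM.Hes7
import Cfsg.Agent.MonsterX.ProgM.Hes9
import Cfsg.Agent.MonsterX.ProgM.Hes10
import Cfsg.Agent.MonsterX.ProgM.Hes12
import Cfsg.Agent.MonsterX.ProgM.Hes13
import Cfsg.Agent.MonsterX.ProgM.Hep2
import Cfsg.Agent.MonsterX.ProgM.Hep2i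

/-!
# Held's group in the centraliser of an element of order 7 of the Monster: the programs

Programs for the generators `a b c d e f g` of the presentation of Held's group and for an element `x` of order 7.
All but `d` are monomial.
-/

set_option autoImplicit false

namespace Cfsg.Agent.MonsterX.HeM.Words

open Cfsg.Agent.Monster.VecEngine Cfsg.Agent.Monster.VecSpace Cfsg.Agent.MonsterX.Space
open Cfsg.Agent.MonsterX.ProgTable Cfsg.Agent.MonsterX.GensT Cfsg.Agent.MonsterX.ProgBase
open Cfsg.Agent.MonsterX.Conc Cfsg.Agent.MonsterX.InstData Cfsg.Agent.MonsterX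

/-- The programs of `a`. -/
noncomputable def pa : List Prog := [prog 13, prog 15, prog 17, prog 19, prog 20, prog 22, prog 45]

/-- The programs of `b`. -/
noncomputable def pb : List Prog := [ProgM.Heb.prog]

/-- The programs of `c`. -/
noncomputable def pc : List Prog := [ProgM.Hec.prog]

/-- The programs of `e`. -/
noncomputable def pe : List Prog := [prog 45]

/-- The programs of `f`. -/
noncomputable def pf : List Prog := [prog 0]

/-- The programs of `g`. -/
noncomputable def pg : List Prog := [prog 12, prog 14, prog 16, prog 19, prog 22, prog 23]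

/-- The programs of `x`. -/
noncomputable def px : List Prog := [ProgM.Hex.prog]

/-- The programs of `d`. -/
noncomputable def pd : List Prog :=
  [prog 40, ProgM.Hes3.prog, prog 39, ProgM.Hep2i.prog, prog 39, ProgM.Hes13.prog,
    prog 40, ProgM.Hes12.prog, prog 39, ProgM.Hep2.prog, prog 39, ProgM.Hes10.prog,
    prog 40, ProgM.Hes9.prog, prog 39, ProgM.Hep2.prog, prog 39, ProgM.Hes7.prog,
    prog 41, ProgM.Hes3.prog, prog 39, ProgM.Hep2i.prog, prog 39, ProgM.Hes4.prog,
    prog 41, ProgM.Hes3.prog, prog 39, ProgM.Hep2i.prog, prog 39, ProgM.Hes1.prog, prog 41]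

end Cfsg.Agent.MonsterX.HeM.Words
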